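import Groth.Agent.H66.Section.Twisted
import Groth.Agent.H66.Trigon2
import Groth.Agent.H66.ExactSeq
import Groth.Agent.H66.Unip
import Mathlib

/-! An extension of a diagonalisable group by a unipotent group splits over an algebraically closed field. -/

set_option autoImplicit false
set_option linter.unusedSectionVars false
set_option linter.style.haveILetI false
universe u

namespace Groth.Agent.H66.Section

open TensorProduct Groth.Agent.Lib.Comod.Basic

noncomputable section

variable {k : Type u} [Field k] {A : Type u} [CommRing A] [HopfAlgebra k A] {M : Type u} [CommGroup M]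

local notation "kM" => MonoidAlgebra k M

variable (j : MonoidAlgebra k M →ₐc[k] A)

/-- The image. -/
abbrev img : Subalgebra k A := (j : kM →ₐ[k] A).range

theorem img_comul : ∀ b ∈ img j, CoalgebraStruct.comul (R := k) b ∈
    LinearMap.range (TensorProduct.map (img j).val.toLinearMap (img j).val.toLinearMap) :=
  (Lib.HopfTransfer.isHopfSubalgebra_range j).1

theorem img_antipode : ∀ b ∈ img j, HopfAlgebraStruct.antipode (R := k) b ∈ img j :=
  (Lib.HopfTransfer.isHopfSubalgebra_range j).2

/-- The ideal of the kernel. -/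
abbrev augIdeal : Ideal A := Ideal.map (j : kM →+* A) (RingHom.ker (Bialgebra.counitAlgHom k kM))

theorem isGroupLike_mem [Algebra.FiniteType k A] {B : Type u} [CommRing B] [Bialgebra k B] (q : A →ₐc[k] B)
    (hker : RingHom.ker (q : A →ₐ[k] B) ≤ augIdeal j) (hU : HopfRep.IsUnipotent k B) {χ : A}
    (hχ : IsGroupLikeElem k χ) : ∃ m : M, χ = j (MonoidAlgebra.single m 1) := by
  classical
  have hq1 : q χ = 1 := by
    have hg := hχ.map q
    obtain ⟨n, hn⟩ := H66.Unip.mem_fil_exists hU (q χ)
    by_contra hne
    have h0 : ∀ n, q χ ∈ H66.Unip.fil k B B n → q χ = 0 := by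
      intro n
      induction n with
      | zero => intro h; rwa [H66.Unip.fil_zero, Submodule.mem_bot] at h
      | succ n ih =>
        intro h
        obtain ⟨φ, hφ⟩ := Module.Projective.exists_dual_ne_zero k (sub_ne_zero.2 hne)
        have h1 := H66.Unip.mem_fil_succ.1 h φ
        rw [dact_apply, show HopfRep.Comod.coact (k := k) (A := B) (q χ) = q χ ⊗ₜ[k] q χ from hg.comul_eq_tmul_self,
          contract_tmul, ← sub_smul, ← map_sub] at h1
        refine ih ?_
        have h2 := Submodule.smul_mem _ (φ (q χ - 1))⁻¹ h1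
        rwa [smul_smul, inv_mul_cancel₀ hφ, one_smul] at h2
    have h1 := hg.counit_eq_one
    rw [h0 n hn, map_zero] at h1
    exact zero_ne_one h1
  haveI := H66.ExactSeq.faithfullyFlat_subalgebra (img j) (img_comul j) (img_antipode j)
  have hmem : χ ∈ img j := by
    refine H66.ExactSeq.mem_of_coinvariant (img j) (img_comul j) (img_antipode j) (q : A →ₐ[k] B) ?_ ?_
    · refine hker.trans (Ideal.map_le_iff_le_comap.2 fun c hc => Ideal.mem_comap.2
        (Ideal.subset_span ⟨⟨c, rfl⟩, ?_⟩))
      exact (CoalgHomClass.counit_comp_apply j c).trans hc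
    · rw [hχ.comul_eq_tmul_self, LinearMap.lTensor_tmul]
      exact congrArg (χ ⊗ₜ[k] ·) hq1
  obtain ⟨b, rfl⟩ := hmem
  by_contra hne
  push_neg at hne
  have hli : LinearIndepOn k id {a : A | IsGroupLikeElem k a} := linearIndepOn_isGroupLikeElem
  have hb : (j : kM →ₐ[k] A) b ∈ Submodule.span k ({a : A | IsGroupLikeElem k a} \ {(j : kM →ₐ[k] A) b}) := by
    have hspan : ∀ c : kM,
        (j : kM →ₐ[k] A) c ∈ Submodule.span k ({a : A | IsGroupLikeElem k a} \ {(j : kM →ₐ[k] A) b}) := by
      intro c
      induction c using MonoidAlgebra.induction_linear with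
      | zero => rw [map_zero]; exact Submodule.zero_mem _
      | add p q hp hq => rw [map_add]; exact Submodule.add_mem _ hp hq
      | single m r =>
        rw [← mul_one r, ← smul_eq_mul, ← MonoidAlgebra.smul_single, map_smul]
        exact Submodule.smul_mem _ _ (Submodule.subset_span ⟨(MonoidAlgebra.isGroupLikeElem_single_one m).map j,
          fun h => hne m (by rw [Set.mem_singleton_iff] at h; exact h.symm)⟩)
    exact hspan b
  have := (linearIndepOn_iff_notMem_span.1 hli) _ hχ
  rw [Set.image_id] at this
  exact this hb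

theorem exists_twisted [Algebra.FiniteType k A] (hj : Function.Injective j) (hT : HopfRep.IsTrigonalizable k A)
    (hgl : ∀ χ : A, IsGroupLikeElem k χ → ∃ m : M, χ = j (MonoidAlgebra.single m 1)) (hne : img j ≠ ⊤) :
    ∃ (y : A) (g : M), y ∉ img j ∧
      CoalgebraStruct.comul (R := k) y = y ⊗ₜ[k] (1 : A) + j (MonoidAlgebra.single g 1) ⊗ₜ[k] y := by
  classical
  obtain ⟨a₀, ha₀⟩ : ∃ a, a ∉ img j := by
    by_contra! h
    exact hne (eq_top_iff.2 fun a _ => h a)
  let W := cyclic (k := k) (A := A) A a₀
  haveI : Module.Finite k W := Module.Finite.iff_fg.2 (cyclic_fg A a₀)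
  have hW : HopfRep.IsSubcomod (k := k) (A := A) W := isSubcomod_cyclic a₀
  have hS : HopfRep.IsSubcomod (k := k) (A := A) (Subalgebra.toSubmodule (img j)) := by
    intro b hb
    obtain ⟨z, hz⟩ := img_comul j b hb
    refine ⟨((img j).val.toLinearMap).lTensor _ z, ?_⟩
    show _ = CoalgebraStruct.comul (R := k) b
    rw [← hz, ← LinearMap.comp_apply, LinearMap.rTensor_comp_lTensor]
    rfl
  letI cW := subComod W hW
  let U : Submodule k W := (Subalgebra.toSubmodule (img j)).comap W.subtype
  have hU : HopfRep.IsSubcomod (k := k) (A := A) U := isSubcomod_comap (isComodHom_subtype hW) hS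
  letI cQ := quotComod U hU
  haveI : Nontrivial (W ⧸ U) := Submodule.Quotient.nontrivial_iff.2 fun h => ha₀ <| by
    have h' : (⟨a₀, self_mem_cyclic A a₀⟩ : W) ∈ U := h ▸ Submodule.mem_top
    exact h'
  obtain ⟨v, -, hv0, ⟨χ, hχ⟩, -⟩ := H66.Trigon.exists_line (V := W ⧸ U) hT isSubcomod_top top_ne_bot
  obtain ⟨m₁, hm₁⟩ := hgl χ (H66.Trigon.isGroupLike_of_coact hv0 hχ)
  obtain ⟨x, rfl⟩ := U.mkQ_surjective v
  have hxS : (x : A) ∉ img j := fun h => hv0 ((Submodule.Quotient.mk_eq_zero U).2 h)
  -- Δ x - x ⊗ χ lies in k[M] ⊗ A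
  obtain ⟨z, hz⟩ : ∃ z : kM ⊗[k] A, ((j : kM →ₐ[k] A).toLinearMap).rTensor A z =
      CoalgebraStruct.comul (R := k) (x : A) - (x : A) ⊗ₜ[k] χ := by
    have h0 : U.mkQ.rTensor A (HopfRep.Comod.coact (k := k) (A := A) x - x ⊗ₜ[k] χ) = 0 := by
      rw [map_sub, LinearMap.rTensor_tmul, sub_eq_zero]
      exact hχ
    obtain ⟨z, hz⟩ := (rTensor_mkQ A U).le (LinearMap.mem_ker.2 h0)
    have h1 := congrArg (W.subtype.rTensor A) hz
    have h2 : W.subtype.rTensor A (HopfRep.Comod.coact (k := k) (A := A) x) = CoalgebraStruct.comul (R := k) (x : A) :=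
      (LinearMap.congr_fun (isComodHom_subtype hW) x).symm
    rw [map_sub, h2, LinearMap.rTensor_tmul] at h1
    have hlift : ∀ z : U ⊗[k] A, ∃ z' : kM ⊗[k] A,
        ((j : kM →ₐ[k] A).toLinearMap).rTensor A z' = W.subtype.rTensor A (U.subtype.rTensor A z) := by
      intro z
      induction z using TensorProduct.induction_on with
      | zero => exact ⟨0, by simp⟩
      | add p q hp hq =>
        obtain ⟨p', hp'⟩ := hp; obtain ⟨q', hq'⟩ := hq
        exact ⟨p' + q', by simp only [map_add, hp', hq']⟩
      | tmul p q =>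
        obtain ⟨b, hb⟩ := p.2
        exact ⟨b ⊗ₜ[k] q, by simp only [LinearMap.rTensor_tmul, Submodule.subtype_apply, AlgHom.toLinearMap_apply]; exact congrArg (· ⊗ₜ[k] q) hb⟩
    obtain ⟨z', hz'⟩ := hlift z
    exact ⟨z', hz'.trans h1⟩
  let e := TensorProduct.equivFinsuppOfBasisLeft (MonoidAlgebra.basis M k) (N := A)
  obtain ⟨c, rfl⟩ := e.symm.surjective z
  simp only [e, TensorProduct.equivFinsuppOfBasisLeft_symm_apply] at hz
  rw [Finsupp.sum, map_sum] at hz
  simp only [LinearMap.rTensor_tmul, MonoidAlgebra.basis_apply, AlgHom.toLinearMap_apply] at hz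
  -- some coefficient is new
  obtain ⟨h, hh⟩ : ∃ h : M, c h ∉ img j := by
    by_contra! hall
    have h1 := congrArg (fun t => TensorProduct.lid k A ((CoalgebraStruct.counit (R := k) (A := A)).rTensor A t)) hz
    simp only [map_sum, map_sub, LinearMap.rTensor_tmul, Coalgebra.rTensor_counit_comul, TensorProduct.lid_tmul,
      one_smul] at h1
    refine hxS ?_
    have h2 : (x : A) = (∑ i ∈ c.support, CoalgebraStruct.counit (R := k) ((j : kM →ₐ[k] A) (MonoidAlgebra.single i 1)) • c i) +
        CoalgebraStruct.counit (R := k) (x : A) • χ := eq_add_of_sub_eq h1.symm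
    rw [h2]
    exact add_mem (sum_mem fun i _ => Subalgebra.smul_mem _ (hall i) _)
      (Subalgebra.smul_mem _ (hm₁ ▸ ⟨_, rfl⟩) _)
  -- a functional picking the coefficient
  obtain ⟨φ, hφx, hφj⟩ : ∃ φ : A →ₗ[k] k, φ (x : A) = 0 ∧
      ∀ b : kM, φ ((j : kM →ₐ[k] A) b) = (MonoidAlgebra.basis M k).coord h b := by
    let f : (kM × k) →ₗ[k] A := (j : kM →ₐ[k] A).toLinearMap.coprod (LinearMap.toSpanSingleton k A (x : A))
    have hf : Function.Injective f := by
      refine (injective_iff_map_eq_zero f).2 fun ⟨b, r⟩ hbr => ?_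
      simp only [f, LinearMap.coprod_apply, AlgHom.toLinearMap_apply, LinearMap.toSpanSingleton_apply] at hbr
      by_cases hr : r = 0
      · subst hr
        rw [zero_smul, add_zero] at hbr
        rw [hj (hbr.trans (map_zero (j : kM →ₐ[k] A)).symm)]
        rfl
      · exfalso
        refine hxS ⟨(-r⁻¹) • b, ?_⟩
        show (j : kM →ₐ[k] A) ((-r⁻¹) • b) = _
        rw [map_smul, eq_neg_of_add_eq_zero_left hbr, smul_neg, smul_smul, neg_mul, inv_mul_cancel₀ hr, neg_smul,
          one_smul, neg_neg]
    obtain ⟨l, hl⟩ := f.exists_leftInverse_of_injective (LinearMap.ker_eq_bot.2 hf)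
    refine ⟨(MonoidAlgebra.basis M k).coord h ∘ₗ LinearMap.fst k kM k ∘ₗ l, ?_, fun b => ?_⟩
    · have := LinearMap.congr_fun hl (0, 1)
      simp only [f, LinearMap.comp_apply, LinearMap.coprod_apply, LinearMap.toSpanSingleton_apply, one_smul,
        map_zero, zero_add, LinearMap.id_apply] at this
      simp [this]
    · have := LinearMap.congr_fun hl (b, 0)
      simp only [f, LinearMap.comp_apply, LinearMap.coprod_apply, AlgHom.toLinearMap_apply, map_zero, add_zero,
        LinearMap.id_apply] at this
      show (MonoidAlgebra.basis M k).coord h (l ((j : kM →ₐ[k] A) b)).1 = _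
      rw [this]
  -- the key identity
  let jh : A := j (MonoidAlgebra.single h 1)
  have hkey : CoalgebraStruct.comul (R := k) (c h) = c h ⊗ₜ[k] χ + jh ⊗ₜ[k] c h := by
    have hx : CoalgebraStruct.comul (R := k) (x : A) =
        (x : A) ⊗ₜ[k] χ + ∑ i ∈ c.support, (j : kM →ₐ[k] A) (MonoidAlgebra.single i 1) ⊗ₜ[k] c i := by
      rw [hz]; abel
    have hco := Coalgebra.coassoc_apply (R := k) (x : A)
    have hi : ∀ i : M, φ ((j : kM →ₐ[k] A) (MonoidAlgebra.single i 1)) = if i = h then 1 else 0 := fun i => by
      rw [hφj, Module.Basis.coord_apply, ← MonoidAlgebra.basis_apply, Module.Basis.repr_self, Finsupp.single_apply]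
    have hch : ∑ i ∈ c.support, (if i = h then (1 : k) else 0) • c i = c h := by
      rw [Finset.sum_eq_single h (fun i _ hi => by simp [hi]) (fun hn => by simp [Finsupp.notMem_support_iff.1 hn])]
      simp
    have hl : TensorProduct.lid k A (φ.rTensor A (CoalgebraStruct.comul (R := k) (x : A))) = c h := by
      rw [hx]
      simp only [map_add, map_sum, LinearMap.rTensor_tmul, TensorProduct.lid_tmul, hφx, zero_smul, zero_add, hi]
      exact hch
    let L : A ⊗[k] (A ⊗[k] A) →ₗ[k] A ⊗[k] A := (TensorProduct.lid k (A ⊗[k] A)).toLinearMap ∘ₗ φ.rTensor (A ⊗[k] A)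
    have h1 := congrArg L hco
    have hR : L ((CoalgebraStruct.comul (R := k) (A := A)).lTensor A (CoalgebraStruct.comul (R := k) (x : A))) =
        CoalgebraStruct.comul (R := k) (c h) := by
      rw [← hl]
      generalize CoalgebraStruct.comul (R := k) (x : A) = t
      induction t using TensorProduct.induction_on with
      | zero => simp
      | add p q hp hq => simp only [map_add, hp, hq]
      | tmul p q => simp [L]
    have hL : ∀ t : A ⊗[k] A, ∀ b : A, L (TensorProduct.assoc k A A A (t ⊗ₜ[k] b)) =
        TensorProduct.lid k A (φ.rTensor A t) ⊗ₜ[k] b := by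
      intro t b
      induction t using TensorProduct.induction_on with
      | zero => simp
      | add p q hp hq => simp only [TensorProduct.add_tmul, map_add, hp, hq]
      | tmul p q => simp [L, TensorProduct.smul_tmul']
    have hLl : L (TensorProduct.assoc k A A A ((CoalgebraStruct.comul (R := k) (A := A)).rTensor A
        (CoalgebraStruct.comul (R := k) (x : A)))) = c h ⊗ₜ[k] χ + jh ⊗ₜ[k] c h := by
      conv_lhs => arg 2; arg 2; arg 2; rw [hx]
      simp only [map_add, map_sum, LinearMap.rTensor_tmul, hL, hl]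
      congr 1
      rw [Finset.sum_congr rfl fun i _ => by
        rw [show CoalgebraStruct.comul (R := k) ((j : kM →ₐ[k] A) (MonoidAlgebra.single i 1)) =
          (j : kM →ₐ[k] A) (MonoidAlgebra.single i 1) ⊗ₜ[k] (j : kM →ₐ[k] A) (MonoidAlgebra.single i 1) from
            ((MonoidAlgebra.isGroupLikeElem_single_one i).map j).comul_eq_tmul_self,
          LinearMap.rTensor_tmul, TensorProduct.lid_tmul, hi]]
      rw [Finset.sum_eq_single h (fun i _ hi => by simp [hi]) (fun hn => by simp [Finsupp.notMem_support_iff.1 hn])]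
      simp [jh]
    exact hR.symm.trans (h1.symm.trans hLl)
  -- normalise
  refine ⟨c h * j (MonoidAlgebra.single m₁⁻¹ 1), h * m₁⁻¹, fun hy => hh ?_, ?_⟩
  · have : c h = c h * j (MonoidAlgebra.single m₁⁻¹ 1) * j (MonoidAlgebra.single m₁ 1) := by
      rw [mul_assoc, ← map_mul, MonoidAlgebra.single_mul_single, inv_mul_cancel, one_mul, ← MonoidAlgebra.one_def,
        map_one, mul_one]
    rw [this]
    exact mul_mem hy ⟨_, rfl⟩
  · rw [Bialgebra.comul_mul, hkey, ((MonoidAlgebra.isGroupLikeElem_single_one m₁⁻¹).map j).comul_eq_tmul_self,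
      add_mul, Algebra.TensorProduct.tmul_mul_tmul, Algebra.TensorProduct.tmul_mul_tmul]
    simp only [hm₁, jh, ← map_mul, MonoidAlgebra.single_mul_single, mul_inv_cancel, one_mul, ← MonoidAlgebra.one_def,
      map_one]

theorem isHopfIdeal_span_twisted {z u : A} (hu : IsGroupLikeElem k u)
    (hz : CoalgebraStruct.comul (R := k) z = z ⊗ₜ[k] (1 : A) + u ⊗ₜ[k] z) :
    (Ideal.span {z}).IsHopfIdeal k := by
  have hε : CoalgebraStruct.counit (R := k) z = 0 := by
    have h := congrArg (fun t => TensorProduct.lid k A ((CoalgebraStruct.counit (R := k) (A := A)).rTensor A t)) hz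
    simp only [Coalgebra.rTensor_counit_comul, map_add, LinearMap.rTensor_tmul, TensorProduct.lid_tmul,
      hu.counit_eq_one, one_smul] at h
    have h1 : CoalgebraStruct.counit (R := k) z • (1 : A) = 0 := by rwa [right_eq_add] at h
    by_contra hne
    have h2 := congrArg (CoalgebraStruct.counit (R := k)) h1
    rw [map_smul, Bialgebra.counit_one, map_zero, smul_eq_mul, mul_one] at h2
    exact hne h2
  let I : Ideal A := Ideal.span {z}
  let q : A →ₐ[k] A ⧸ I := Ideal.Quotient.mkₐ k I
  have hqz : q z = 0 := Ideal.Quotient.eq_zero_iff_mem.2 (Ideal.mem_span_singleton_self z)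
  haveI : (I.restrictScalars k).IsCoideal := by
    refine Submodule.IsCoideal.mk (fun x hx => ?_) fun x hx => ?_
    · have : I ≤ RingHom.ker (Bialgebra.counitAlgHom k A) := by
        rw [Ideal.span_le, Set.singleton_subset_iff]; exact hε
      exact this hx
    · rw [show (Submodule.restrictScalars k I).mkQ = q.toLinearMap from rfl]
      change (Algebra.TensorProduct.map q q).comp (Bialgebra.comulAlgHom k A) x = 0
      have : I ≤ RingHom.ker ((Algebra.TensorProduct.map q q).comp (Bialgebra.comulAlgHom k A)) := by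
        rw [Ideal.span_le, Set.singleton_subset_iff]
        show (Algebra.TensorProduct.map q q) (CoalgebraStruct.comul (R := k) z) = 0
        rw [hz]; simp [hqz]
      exact this hx
  refine Ideal.IsHopfIdeal.mk fun x hx => ?_
  have hSz : HopfAlgebraStruct.antipode (R := k) z + HopfAlgebraStruct.antipode (R := k) u * z = 0 := by
    have h := LinearMap.congr_fun (HopfAlgebra.mul_antipode_rTensor_comul (R := k) (A := A)) z
    simp only [LinearMap.comp_apply, hz, map_add, LinearMap.rTensor_tmul, LinearMap.mul'_apply, mul_one, hε,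
      map_zero, Algebra.linearMap_apply] at h
    exact h
  have : I ≤ I.comap (HopfAlgebra.antipodeAlgHom k A) := by
    rw [Ideal.span_le, Set.singleton_subset_iff]
    show HopfAlgebraStruct.antipode (R := k) z ∈ I
    rw [eq_neg_of_add_eq_zero_left hSz]
    exact I.neg_mem (I.mul_mem_left _ (Ideal.mem_span_singleton_self z))
  exact this hx

variable [IsAlgClosed k] [Algebra.FiniteType k A]

theorem exists_ideal (hj : Function.Injective j) (y : A) (g : M) (hy : y ∉ img j)
    (hΔ : CoalgebraStruct.comul (R := k) y = y ⊗ₜ[k] (1 : A) + j (MonoidAlgebra.single g 1) ⊗ₜ[k] y) :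
    ∃ (I : Ideal A) (_ : I.IsHopfIdeal k), I ≠ ⊥ ∧ ∀ b : kM, j b ∈ I → b = 0 := by
  classical
  obtain ⟨c, hc⟩ := exists_root j y hΔ hj
  let G : kM := MonoidAlgebra.single g 1
  let t : kM := c • (1 - G)
  let z : A := y - j t
  have hjG := (MonoidAlgebra.isGroupLikeElem_single_one (R := k) g).map j
  have hz : CoalgebraStruct.comul (R := k) z = z ⊗ₜ[k] (1 : A) + j G ⊗ₜ[k] z := by
    have ht : j t = c • (1 - j G) := by simp [t]
    simp only [z, map_sub, hΔ, ht, map_smul, Bialgebra.comul_one, hjG.comul_eq_tmul_self, G,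
      Algebra.TensorProduct.one_def, TensorProduct.sub_tmul, TensorProduct.tmul_sub, TensorProduct.tmul_smul,
      TensorProduct.smul_tmul', smul_sub]
    abel
  refine ⟨Ideal.span {z}, isHopfIdeal_span_twisted hjG hz, fun h => hy ?_, fun b hb => ?_⟩
  · rw [Ideal.span_singleton_eq_bot] at h
    exact ⟨t, (sub_eq_zero.1 h).symm⟩
  -- the subalgebra generated by `y`
  let S : Subalgebra k A := Algebra.adjoin k ((img j : Set A) ∪ {y})
  have hsub : (img j : Set A) ⊆ S := fun a ha => Algebra.subset_adjoin (Or.inl ha)
  have hyS : y ∈ S := Algebra.subset_adjoin (Or.inr rfl)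
  have h1 : ∀ b ∈ S, CoalgebraStruct.comul (R := k) b ∈
      LinearMap.range (TensorProduct.map S.val.toLinearMap S.val.toLinearMap) := by
    intro b hb
    let T : Subalgebra k (A ⊗[k] A) := (Algebra.TensorProduct.map S.val S.val).range
    have hS : S ≤ T.comap (Bialgebra.comulAlgHom k A) := by
      refine Algebra.adjoin_le ?_
      rintro a (ha | rfl)
      · obtain ⟨b, rfl⟩ := ha
        refine ⟨Algebra.TensorProduct.map ((j : kM →ₐ[k] A).codRestrict S fun b => hsub ⟨b, rfl⟩)
          ((j : kM →ₐ[k] A).codRestrict S fun b => hsub ⟨b, rfl⟩) (CoalgebraStruct.comul (R := k) b), ?_⟩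
        refine Eq.trans ?_ (CoalgHomClass.map_comp_comul_apply j b)
        generalize CoalgebraStruct.comul (R := k) b = w
        induction w using TensorProduct.induction_on with
        | zero => simp
        | add p q hp hq => simp only [map_add] at hp hq ⊢; rw [hp, hq]
        | tmul p q => rfl
      · refine ⟨(⟨a, hyS⟩ : S) ⊗ₜ[k] (1 : S) + (⟨j G, hsub ⟨G, rfl⟩⟩ : S) ⊗ₜ[k] (⟨a, hyS⟩ : S), ?_⟩
        show _ = CoalgebraStruct.comul (R := k) a
        rw [hΔ]
        simp [G]
    obtain ⟨w, hw⟩ := hS hb
    exact ⟨w, hw⟩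
  have h2 : ∀ b ∈ S, HopfAlgebraStruct.antipode (R := k) b ∈ S := by
    intro b hb
    have hS : S ≤ S.comap (HopfAlgebra.antipodeAlgHom k A) := by
      refine Algebra.adjoin_le ?_
      rintro a (ha | rfl)
      · exact hsub (img_antipode j a ha)
      · show HopfAlgebraStruct.antipode (R := k) a ∈ S
        have hε : CoalgebraStruct.counit (R := k) a • (1 : A) = 0 := by
          have h := congrArg (fun t => TensorProduct.lid k A ((CoalgebraStruct.counit (R := k) (A := A)).rTensor A t)) hΔ
          simp only [Coalgebra.rTensor_counit_comul, map_add, LinearMap.rTensor_tmul, TensorProduct.lid_tmul,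
            hjG.counit_eq_one, one_smul] at h
          rwa [right_eq_add] at h
        have h := LinearMap.congr_fun (HopfAlgebra.mul_antipode_rTensor_comul (R := k) (A := A)) a
        simp only [LinearMap.comp_apply, hΔ, map_add, LinearMap.rTensor_tmul, LinearMap.mul'_apply, mul_one,
          Algebra.linearMap_apply, Algebra.algebraMap_eq_smul_one, hε] at h
        rw [eq_neg_of_add_eq_zero_left h]
        exact neg_mem (mul_mem (hsub (img_antipode j _ ⟨G, rfl⟩)) hyS)
    exact hS hb
  haveI := H66.ExactSeq.faithfullyFlat_subalgebra S h1 h2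
  have hzS : z ∈ S := sub_mem hyS (hsub ⟨t, rfl⟩)
  have hjb : (⟨j b, hsub ⟨b, rfl⟩⟩ : S) ∈ Ideal.span {(⟨z, hzS⟩ : S)} := by
    rw [← Ideal.comap_map_eq_self_of_faithfullyFlat (B := A) (Ideal.span {(⟨z, hzS⟩ : S)}), Ideal.mem_comap,
      Ideal.map_span, Set.image_singleton]
    exact hb
  obtain ⟨s, hs⟩ := Ideal.mem_span_singleton'.1 hjb
  have hsA : (s : A) * z = j b := congrArg Subtype.val hs
  obtain ⟨P, hP⟩ : ∃ P : Polynomial kM, ev j y P = (s : A) := by
    have hle : S ≤ (({ (ev j y) with
        commutes' := fun r => by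
          show Polynomial.eval₂ _ y (algebraMap k (Polynomial kM) r) = _
          rw [Polynomial.algebraMap_apply, Polynomial.eval₂_C]
          exact (j : kM →ₐ[k] A).commutes r } : Polynomial kM →ₐ[k] A)).range := by
      refine Algebra.adjoin_le ?_
      rintro a (⟨b, rfl⟩ | rfl)
      · exact ⟨Polynomial.C b, Polynomial.eval₂_C _ _⟩
      · exact ⟨Polynomial.X, Polynomial.eval₂_X _ _⟩
    exact hle s.2
  have h0 : ev j y (Polynomial.C b - P * (Polynomial.X - Polynomial.C t)) = 0 := by
    rw [map_sub, map_mul, hP, map_sub]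
    simp only [Polynomial.coe_eval₂RingHom, Polynomial.eval₂_C, Polynomial.eval₂_X]
    rw [show y - (j : kM →+* A) t = z from rfl, hsA]
    exact sub_self _
  have := hc _ h0
  simpa [t, G] using this

/-- Splitting. -/
theorem exists_retraction (j : kM →ₐc[k] A) (hj : Function.Injective j) (J : Ideal A) [J.IsHopfIdeal k]
    (hJ : J = augIdeal j) (hU : HopfRep.IsUnipotent k (A ⧸ J)) :
    ∃ r : A →ₐc[k] kM, r.comp j = BialgHom.id k kM := by
  classical
  haveI : IsNoetherianRing A := Algebra.FiniteType.isNoetherianRing k A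
  have hdiag : HopfRep.IsDiagonalizable k kM := by
    refine eq_top_iff.2 fun b _ => ?_
    induction b using MonoidAlgebra.induction_linear with
    | zero => exact Submodule.zero_mem _
    | add p q hp hq => exact Submodule.add_mem _ (hp trivial) (hq trivial)
    | single m r =>
      rw [← mul_one r, ← smul_eq_mul, ← MonoidAlgebra.smul_single]
      exact Submodule.smul_mem _ _ (Submodule.subset_span (MonoidAlgebra.isGroupLikeElem_single_one m))
  let 𝒮 : Set (Ideal A) := {I | I.IsHopfIdeal k ∧ ∀ b : kM, j b ∈ I → b = 0}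
  have hbot : (⊥ : Ideal A) ∈ 𝒮 := by
    refine ⟨?_, fun b hb => hj ((Ideal.mem_bot.1 hb).trans (map_zero j).symm)⟩
    haveI : ((⊥ : Ideal A).restrictScalars k).IsCoideal :=
      Submodule.IsCoideal.mk (fun x hx => by rw [show x = 0 from hx, map_zero])
        (fun x hx => by rw [show x = 0 from hx, map_zero, map_zero])
    exact Ideal.IsHopfIdeal.mk fun x hx => by rw [show x = 0 from hx, map_zero]; exact zero_mem _
  obtain ⟨K, hKmem, hmax⟩ := set_has_maximal_iff_noetherian.2 inferInstance 𝒮 ⟨⊥, hbot⟩
  obtain ⟨hK, hKj⟩ := hKmem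
  haveI := hK
  let π : A →ₐc[k] A ⧸ K := Bialgebra.Quotient.mkBialgHom (R := k) K
  let j' : kM →ₐc[k] A ⧸ K := π.comp j
  have hj' : Function.Injective j' := by
    refine (injective_iff_map_eq_zero j').2 fun b hb => hKj b ?_
    exact Ideal.Quotient.eq_zero_iff_mem.1 hb
  haveI : Algebra.FiniteType k (A ⧸ K) :=
    Algebra.FiniteType.of_surjective (π : A →ₐ[k] A ⧸ K) Ideal.Quotient.mk_surjective
  have hT : HopfRep.IsTrigonalizable k A := H66.Trigon2.isTrigonalizable_of_extension j hdiag J hJ hU
  have hT' : HopfRep.IsTrigonalizable k (A ⧸ K) :=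
    H66.Trigon.isTrigonalizable_of_surjective (π : A →ₗc[k] A ⧸ K) Ideal.Quotient.mk_surjective hT
  have hsurj : img j' = ⊤ := by
    by_contra hne
    -- group-likes of the quotient
    let I' : Ideal (A ⧸ K) := J.map (Ideal.Quotient.mk K)
    have hI' : I' = augIdeal j' := by
      simp only [I', hJ, Ideal.map_map]
      rfl
    haveI : I'.IsHopfIdeal k := by
      have hq : ∀ b, Ideal.Quotient.mk I' (π b) = 0 ↔ π b ∈ I' := fun b => Ideal.Quotient.eq_zero_iff_mem
      let q : A →ₐ[k] (A ⧸ K) ⧸ I' := (Ideal.Quotient.mkₐ k I').comp (π : A →ₐ[k] A ⧸ K)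
      have hqJ : ∀ x ∈ J, q x = 0 := fun x hx => Ideal.Quotient.eq_zero_iff_mem.2 (Ideal.mem_map_of_mem _ hx)
      haveI : (I'.restrictScalars k).IsCoideal := by
        refine Submodule.IsCoideal.mk (fun x hx => ?_) fun x hx => ?_
        · have : I' ≤ RingHom.ker (Bialgebra.counitAlgHom k (A ⧸ K)) := by
            refine Ideal.map_le_iff_le_comap.2 fun a ha => ?_
            show CoalgebraStruct.counit (R := k) (π a) = 0
            rw [CoalgHomClass.counit_comp_apply]
            exact Submodule.IsCoideal.counit_eq_zero (I := J.restrictScalars k) ha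
          exact this hx
        · rw [show (Submodule.restrictScalars k I').mkQ = (Ideal.Quotient.mkₐ k I').toLinearMap from rfl]
          change (Algebra.TensorProduct.map (Ideal.Quotient.mkₐ k I') (Ideal.Quotient.mkₐ k I')).comp
            (Bialgebra.comulAlgHom k (A ⧸ K)) x = 0
          have : I' ≤ RingHom.ker ((Algebra.TensorProduct.map (Ideal.Quotient.mkₐ k I') (Ideal.Quotient.mkₐ k I')).comp
              (Bialgebra.comulAlgHom k (A ⧸ K))) := by
            refine hI'.le.trans (Ideal.map_le_iff_le_comap.2 fun b hb => ?_)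
            show Algebra.TensorProduct.map (Ideal.Quotient.mkₐ k I') (Ideal.Quotient.mkₐ k I')
              (CoalgebraStruct.comul (R := k) (j' b)) = 0
            have e : ∀ w : kM, Ideal.Quotient.mkₐ k I' (j' w) = algebraMap k _ (CoalgebraStruct.counit (R := k) w) := by
              intro w
              rw [← AlgHom.commutes (Ideal.Quotient.mkₐ k I'), ← sub_eq_zero, ← map_sub]
              refine Ideal.Quotient.eq_zero_iff_mem.2 ?_
              rw [hI', show j' w - algebraMap k _ (CoalgebraStruct.counit (R := k) w) =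
                (j' : kM →ₐ[k] A ⧸ K) (w - algebraMap k kM (CoalgebraStruct.counit (R := k) w)) by
                  rw [map_sub, AlgHom.commutes]; rfl]
              refine Ideal.mem_map_of_mem _ ?_
              show Bialgebra.counitAlgHom k kM _ = 0
              rw [map_sub, AlgHom.commutes]
              exact sub_self _
            rw [← CoalgHomClass.map_comp_comul_apply j' b]
            have key : ∀ w : kM ⊗[k] kM, Algebra.TensorProduct.map (Ideal.Quotient.mkₐ k I') (Ideal.Quotient.mkₐ k I')
                (TensorProduct.map (j' : kM →ₗ[k] A ⧸ K) (j' : kM →ₗ[k] A ⧸ K) w) =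
                  algebraMap k _ (LinearMap.mul' k k (TensorProduct.map (CoalgebraStruct.counit (R := k))
                    (CoalgebraStruct.counit (R := k)) w)) := by
              intro w
              induction w using TensorProduct.induction_on with
              | zero => simp
              | add p q hp hq => simp only [map_add, hp, hq]
              | tmul p q =>
                simp only [TensorProduct.map_tmul, Algebra.TensorProduct.map_tmul, LinearMap.mul'_apply, map_mul]
                rw [show (j' : kM →ₗ[k] A ⧸ K) p = j' p from rfl, show (j' : kM →ₗ[k] A ⧸ K) q = j' q from rfl, e, e]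
                rw [Algebra.TensorProduct.algebraMap_apply, Algebra.TensorProduct.algebraMap_apply,
                  Algebra.TensorProduct.tmul_mul_tmul, one_mul, Algebra.algebraMap_eq_smul_one,
                  Algebra.algebraMap_eq_smul_one, TensorProduct.tmul_smul, ← TensorProduct.smul_tmul', smul_smul]
                simp [Algebra.algebraMap_eq_smul_one, TensorProduct.smul_tmul', smul_smul, mul_comm]
            rw [key]
            have h3 : LinearMap.mul' k k (TensorProduct.map (CoalgebraStruct.counit (R := k))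
                (CoalgebraStruct.counit (R := k)) (CoalgebraStruct.comul (R := k) b)) = CoalgebraStruct.counit (R := k) b := by
              have h := congrArg (TensorProduct.lid k kM) (Coalgebra.rTensor_counit_comul (R := k) b)
              rw [TensorProduct.lid_tmul, one_smul] at h
              conv_rhs => rw [← h]
              generalize CoalgebraStruct.comul (R := k) b = w
              induction w using TensorProduct.induction_on with
              | zero => simp
              | add p q hp hq => simp only [map_add, hp, hq]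
              | tmul p q => simp
            rw [h3, show CoalgebraStruct.counit (R := k) b = 0 from hb, map_zero]
          exact this hx
      refine Ideal.IsHopfIdeal.mk fun x hx => ?_
      have : I' ≤ I'.comap (HopfAlgebra.antipodeAlgHom k (A ⧸ K)) := by
        refine Ideal.map_le_iff_le_comap.2 fun a ha => ?_
        show HopfAlgebraStruct.antipode (R := k) (Ideal.Quotient.mk K a) ∈ I'
        rw [HopfAlgebra.Quotient.antipode_mk]
        exact Ideal.mem_map_of_mem _ (Ideal.IsHopfIdeal.antipode_mem ha)
      exact this hx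
    let q : A →ₐc[k] (A ⧸ K) ⧸ I' := (Bialgebra.Quotient.mkBialgHom (R := k) I').comp π
    let q₀ : A ⧸ J →ₐc[k] (A ⧸ K) ⧸ I' := BialgHom.ofAlgHom
      (Ideal.Quotient.liftₐ J (q : A →ₐ[k] (A ⧸ K) ⧸ I') fun a ha =>
        Ideal.Quotient.eq_zero_iff_mem.2 (Ideal.mem_map_of_mem _ ha))
      (Ideal.Quotient.algHom_ext k (AlgHom.ext fun a => CoalgHomClass.counit_comp_apply q a))
      (Ideal.Quotient.algHom_ext k (AlgHom.ext fun a => by
        refine Eq.trans ?_ (CoalgHomClass.map_comp_comul_apply q a)
        show Algebra.TensorProduct.map _ _ (CoalgebraStruct.comul (R := k) (Ideal.Quotient.mk J a)) = _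
        rw [show CoalgebraStruct.comul (R := k) (Ideal.Quotient.mk J a) = _ from
          (CoalgHomClass.map_comp_comul_apply (Bialgebra.Quotient.mkBialgHom (R := k) J) a).symm]
        generalize CoalgebraStruct.comul (R := k) a = w
        induction w using TensorProduct.induction_on with
        | zero => simp
        | add p q hp hq => simp only [map_add, hp, hq]
        | tmul p q => rfl))
    have hU' : HopfRep.IsUnipotent k ((A ⧸ K) ⧸ I') :=
      H66.ExactSeq.isUnipotent_of_surjective q₀ (fun w => by
        obtain ⟨w, rfl⟩ := Ideal.Quotient.mk_surjective w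
        obtain ⟨a, rfl⟩ := Ideal.Quotient.mk_surjective w
        exact ⟨Ideal.Quotient.mk J a, rfl⟩) hU
    have hgl := fun χ hχ => isGroupLike_mem j' (Bialgebra.Quotient.mkBialgHom (R := k) I')
      (fun a ha => hI' ▸ Ideal.Quotient.eq_zero_iff_mem.1 ha) hU' (χ := χ) hχ
    obtain ⟨y, g, hy, hΔ⟩ := exists_twisted j' hj' hT' hgl hne
    obtain ⟨I, hI, hI0, hIj⟩ := exists_ideal j' hj' y g hy hΔ
    haveI := hI
    refine hmax (I.comap (Ideal.Quotient.mk K)) ⟨?_, fun b hb => hIj b hb⟩ (lt_of_le_of_ne ?_ ?_)
    · haveI : ((I.comap (Ideal.Quotient.mk K)).restrictScalars k).IsCoideal := by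
        refine Submodule.IsCoideal.mk (fun x hx => ?_) fun x hx => ?_
        · rw [← CoalgHomClass.counit_comp_apply π x]
          exact Submodule.IsCoideal.counit_eq_zero (I := I.restrictScalars k) hx
        · let qI : A ⧸ K →ₐ[k] (A ⧸ K) ⧸ I := Ideal.Quotient.mkₐ k I
          let fb : A ⧸ (I.comap (Ideal.Quotient.mk K)).restrictScalars k →ₗ[k] (A ⧸ K) ⧸ I :=
            Submodule.liftQ _ (qI.toLinearMap ∘ₗ (π : A →ₐ[k] A ⧸ K).toLinearMap) fun a ha =>
              Ideal.Quotient.eq_zero_iff_mem.2 ha
          have hfb : Function.Injective fb := by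
            refine LinearMap.ker_eq_bot.1 (LinearMap.ker_eq_bot'.2 fun y hy => ?_)
            obtain ⟨a, rfl⟩ := Submodule.Quotient.mk_surjective _ y
            exact (Submodule.Quotient.mk_eq_zero _).2 (Ideal.Quotient.eq_zero_iff_mem.1 hy :)
          have hinj : Function.Injective (TensorProduct.map fb fb) := by
            rw [← LinearMap.rTensor_comp_lTensor, LinearMap.coe_comp]
            exact (Module.Flat.rTensor_preserves_injective_linearMap _ hfb).comp
              (Module.Flat.lTensor_preserves_injective_linearMap _ hfb)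
          refine hinj ?_
          rw [map_zero]
          have h0 : Algebra.TensorProduct.map qI qI (CoalgebraStruct.comul (R := k) (π x)) = 0 :=
            Submodule.IsCoideal.map_mkQ_comul_eq_zero (I := I.restrictScalars k) hx
          rw [← CoalgHomClass.map_comp_comul_apply π x] at h0
          refine Eq.trans ?_ h0
          generalize CoalgebraStruct.comul (R := k) x = w
          induction w using TensorProduct.induction_on with
          | zero => simp
          | add p q hp hq => simp only [map_add, hp, hq]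
          | tmul p q => rfl
      exact Ideal.IsHopfIdeal.mk fun x hx => by
        show Ideal.Quotient.mk K (HopfAlgebraStruct.antipode (R := k) x) ∈ I
        rw [← HopfAlgebra.Quotient.antipode_mk]
        exact Ideal.IsHopfIdeal.antipode_mem hx
    · exact fun a ha => by
        rw [Ideal.mem_comap, Ideal.Quotient.eq_zero_iff_mem.2 ha]; exact zero_mem _
    · intro he
      refine hI0 (eq_bot_iff.2 fun a ha => ?_)
      obtain ⟨a, rfl⟩ := Ideal.Quotient.mk_surjective a
      exact Ideal.Quotient.eq_zero_iff_mem.2 (he ▸ ha)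
  have hbij : Function.Bijective j' :=
    ⟨hj', fun a => (hsurj ▸ Algebra.mem_top : a ∈ img j')⟩
  let e := BialgEquiv.ofBijective j' hbij
  refine ⟨(e.symm : (A ⧸ K) →ₐc[k] kM).comp π, BialgHom.ext fun b => e.symm_apply_apply b⟩

end

end Groth.Agent.H66.Section
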