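import Groth.Agent.Lib.Comod.Basic
import Mathlib

/-!
An element `y` with `Δy = y ⊗ 1 + g ⊗ y` over a group algebra `k[M] ⊆ C`, `k` algebraically closed:
there is `λ` such that `y ↦ λ (1 - g)` respects every relation of `y` over `k[M]`.
-/

set_option autoImplicit false
set_option linter.unusedSectionVars false
universe u v w

namespace Groth.Agent.H66.Section

open TensorProduct Polynomial
open Groth.Agent.Lib.Comod.Basic (contract contract_tmul)

noncomputable section

variable {k : Type u} [Field k] {M : Type v} [CommGroup M] {C : Type w} [CommRing C] [Bialgebra k C]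

local notation "kM" => MonoidAlgebra k M
local notation "gl" m:max => (MonoidAlgebra.single m (1 : k) : MonoidAlgebra k M)

variable (j : MonoidAlgebra k M →ₐc[k] C) (y : C)

/-- Evaluation at `y`. -/
abbrev ev : (kM)[X] →+* C := Polynomial.eval₂RingHom (j : kM →+* C) y

/-- The comultiplication with right factor mapped to `C`. -/
def deltaJ : kM →ₐ[k] kM ⊗[k] C :=
  (Algebra.TensorProduct.map (AlgHom.id k kM) (j : kM →ₐ[k] C)).comp (Bialgebra.comulAlgHom k kM)

theorem deltaJ_gl (m : M) : deltaJ j (gl m) = (gl m) ⊗ₜ[k] j (gl m) := by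
  simp [deltaJ, (MonoidAlgebra.isGroupLikeElem_single_one (R := k) m).comul_eq_tmul_self]

theorem deltaJ_injective : Function.Injective (deltaJ j) := by
  refine Function.LeftInverse.injective (g := fun z => contract kM (CoalgebraStruct.counit (R := k)) z) fun b => ?_
  simp only [deltaJ, AlgHom.comp_apply, Bialgebra.comulAlgHom_apply]
  have h := Coalgebra.lTensor_counit_comul (R := k) b
  have key : ∀ z : kM ⊗[k] kM,
      contract kM (CoalgebraStruct.counit (R := k)) (Algebra.TensorProduct.map (AlgHom.id k kM) (j : kM →ₐ[k] C) z) =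
        TensorProduct.rid k kM ((CoalgebraStruct.counit (R := k) (A := kM)).lTensor kM z) := by
    intro z
    induction z using TensorProduct.induction_on with
    | zero => simp
    | add p q hp hq => simp only [map_add, hp, hq]
    | tmul p q => simp [CoalgHomClass.counit_comp_apply]
  rw [key, h]
  simp

theorem contract_tmul_mul (φ : C →ₗ[k] k) (b : kM) (z : kM ⊗[k] C) :
    contract kM φ ((b ⊗ₜ[k] (1 : C)) * z) = b * contract kM φ z := by
  induction z using TensorProduct.induction_on with
  | zero => simp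
  | add p q hp hq => simp only [mul_add, map_add, hp, hq]
  | tmul p q => simp

/-- Contraction of the left factor. -/
def lcontr (φ : kM →ₗ[k] k) {N : Type w} [AddCommGroup N] [Module k N] : kM ⊗[k] N →ₗ[k] N :=
  (TensorProduct.lid k N).toLinearMap ∘ₗ φ.rTensor N

variable {g : M} (hy : CoalgebraStruct.comul (R := k) y = y ⊗ₜ[k] (1 : C) + j (MonoidAlgebra.single g (1 : k)) ⊗ₜ[k] y)

/-- The translate of a relation. -/
def trans (g : M) (P : (kM)[X]) : (kM ⊗[k] C)[X] :=
  Polynomial.taylor ((gl g) ⊗ₜ[k] y) (P.map (deltaJ j : kM →+* kM ⊗[k] C))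

theorem coeff_trans (g : M) (P : (kM)[X]) (d l : ℕ) (hP : P.natDegree ≤ d) :
    (trans j y g P).coeff l = ∑ m ∈ Finset.range (d + 1),
      (((m + l).choose l : ℕ) : kM ⊗[k] C) * deltaJ j (P.coeff (m + l)) * ((gl g) ⊗ₜ[k] y) ^ m := by
  rw [trans, Polynomial.taylor_coeff, Polynomial.eval_eq_sum_range' (n := d + 1)]
  · exact Finset.sum_congr rfl fun m _ => by rw [Polynomial.hasseDeriv_coeff, Polynomial.coeff_map]; rfl
  · refine Nat.lt_succ_of_le ((Polynomial.natDegree_hasseDeriv_le _ l).trans ?_)
    exact (Nat.sub_le _ _).trans (Polynomial.natDegree_map_le.trans hP)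

/-- The slice of the translate. -/
def slicePoly (g : M) (φ : C →ₗ[k] k) (d : ℕ) (P : (kM)[X]) : (kM)[X] :=
  ∑ i ∈ Finset.range (d + 1), Polynomial.C (contract kM φ ((trans j y g P).coeff i)) * X ^ i

theorem natDegree_slicePoly (φ : C →ₗ[k] k) (d : ℕ) (P : (kM)[X]) : (slicePoly j y g φ d P).natDegree ≤ d := by
  refine Polynomial.natDegree_sum_le_of_forall_le _ _ fun i hi => (Polynomial.natDegree_C_mul_X_pow_le _ _).trans ?_
  exact Nat.lt_succ_iff.1 (Finset.mem_range.1 hi)

theorem coeff_slicePoly (φ : C →ₗ[k] k) (d i : ℕ) (P : (kM)[X]) (hi : i ≤ d) :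
    (slicePoly j y g φ d P).coeff i = contract kM φ ((trans j y g P).coeff i) := by
  simp only [slicePoly, Polynomial.finsetSum_coeff, Polynomial.coeff_C_mul_X_pow]
  rw [Finset.sum_ite_eq, if_pos (Finset.mem_range.2 (Nat.lt_succ_of_le hi))]

include hy

theorem ev_slicePoly (φ : C →ₗ[k] k) (d : ℕ) (P : (kM)[X]) (hd : P.natDegree ≤ d) (hP : ev j y P = 0) :
    ev j y (slicePoly j y g φ d P) = 0 := by
  let Φ : kM ⊗[k] C →ₐ[k] C ⊗[k] C := Algebra.TensorProduct.map (j : kM →ₐ[k] C) (AlgHom.id k C)
  let θ : (kM ⊗[k] C)[X] →+* C ⊗[k] C := Polynomial.eval₂RingHom (Φ : kM ⊗[k] C →+* C ⊗[k] C) (y ⊗ₜ[k] (1 : C))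
  have hΦΔ : ((Φ : kM ⊗[k] C →+* C ⊗[k] C).comp (deltaJ j : kM →+* kM ⊗[k] C)) =
      (Bialgebra.comulAlgHom k C : C →+* C ⊗[k] C).comp (j : kM →+* C) := by
    refine RingHom.ext fun b => ?_
    have h := (CoalgHomClass.map_comp_comul_apply j b).symm
    refine Eq.trans ?_ h.symm
    simp only [RingHom.comp_apply, RingHom.coe_coe, deltaJ, AlgHom.comp_apply, Φ, Bialgebra.comulAlgHom_apply]
    generalize CoalgebraStruct.comul (R := k) b = z
    induction z using TensorProduct.induction_on with
    | zero => simp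
    | add p q hp hq => simp only [map_add, hp, hq]
    | tmul p q => simp
  have h1 : θ (trans j y g P) = Bialgebra.comulAlgHom k C (ev j y P) := by
    show Polynomial.eval₂ _ _ _ = _
    rw [trans, Polynomial.taylor_apply, Polynomial.eval₂_comp, Polynomial.eval₂_map, Polynomial.eval₂_add,
      Polynomial.eval₂_X, Polynomial.eval₂_C, hΦΔ]
    show _ = (Bialgebra.comulAlgHom k C : C →+* C ⊗[k] C) (Polynomial.eval₂ _ y P)
    rw [Polynomial.hom_eval₂]
    congr 1
    simp [Φ, hy]
  have hdeg : (trans j y g P).natDegree ≤ d := by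
    rw [trans, Polynomial.natDegree_taylor]
    exact Polynomial.natDegree_map_le.trans hd
  have key : ∀ z : kM ⊗[k] C, ∀ c : C,
      contract C φ (Φ z * (c ⊗ₜ[k] (1 : C))) = j (contract kM φ z) * c := by
    intro z c
    induction z using TensorProduct.induction_on with
    | zero => simp
    | add p q hp hq => simp only [map_add, add_mul, hp, hq]
    | tmul p q => simp [Φ]
  have h2 : ev j y (slicePoly j y g φ d P) = contract C φ (θ (trans j y g P)) := by
    simp only [slicePoly, map_sum, map_mul, map_pow, Polynomial.coe_eval₂RingHom, Polynomial.eval₂_C, Polynomial.eval₂_X]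
    show _ = contract C φ (Polynomial.eval₂ _ _ _)
    rw [Polynomial.eval₂_eq_sum_range' _ (Nat.lt_succ_of_le hdeg), map_sum]
    refine Finset.sum_congr rfl fun i _ => ?_
    rw [Algebra.TensorProduct.tmul_pow, one_pow]
    exact (key _ _).symm
  rw [h2, h1, hP, map_zero, map_zero]

theorem exists_monic (hj : Function.Injective j) {d : ℕ} (hex : ∃ P : (kM)[X], P ≠ 0 ∧ P.natDegree ≤ d ∧ ev j y P = 0)
    (hmin : ∀ P : (kM)[X], P.degree < d → ev j y P = 0 → P = 0) :
    ∃ P : (kM)[X], P.Monic ∧ P.natDegree = d ∧ ev j y P = 0 := by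
  classical
  let L : Ideal kM :=
    { carrier := {b | ∃ P : (kM)[X], P.natDegree ≤ d ∧ ev j y P = 0 ∧ P.coeff d = b}
      add_mem' := by
        rintro a b ⟨P, hP, hP0, rfl⟩ ⟨Q, hQ, hQ0, rfl⟩
        exact ⟨P + Q, (Polynomial.natDegree_add_le _ _).trans (max_le hP hQ), by rw [map_add, hP0, hQ0, add_zero],
          Polynomial.coeff_add _ _ _⟩
      zero_mem' := ⟨0, by simp, map_zero _, by simp⟩
      smul_mem' := by
        rintro c b ⟨P, hP, hP0, rfl⟩
        exact ⟨Polynomial.C c * P, (Polynomial.natDegree_C_mul_le _ _).trans hP, by rw [map_mul, hP0, mul_zero],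
          Polynomial.coeff_C_mul _⟩ }
  obtain ⟨P, hP0, hPd, hPev⟩ := hex
  have hb : P.coeff d ≠ 0 := by
    intro h
    refine hP0 (hmin P ?_ hPev)
    rw [Polynomial.degree_lt_iff_coeff_zero]
    intro m hm
    rcases eq_or_lt_of_le hm with h' | h'
    · exact h' ▸ h
    · exact Polynomial.coeff_eq_zero_of_natDegree_lt (lt_of_le_of_lt hPd h')
  obtain ⟨m₀, hm₀⟩ : ∃ m, (P.coeff d).coeff m ≠ 0 := by
    by_contra! h
    exact hb (MonoidAlgebra.coeff_injective (Finsupp.ext fun m => by simp [h m]))
  obtain ⟨l, hl⟩ := (j : kM →ₐ[k] C).toLinearMap.exists_leftInverse_of_injective (LinearMap.ker_eq_bot.2 hj)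
  let φ : C →ₗ[k] k := (MonoidAlgebra.basis M k).coord m₀ ∘ₗ l
  have hmem : contract kM φ (deltaJ j (P.coeff d)) ∈ L := by
    refine ⟨slicePoly j y g φ d P, natDegree_slicePoly j y φ d P, ev_slicePoly j y hy φ d P hPd hPev, ?_⟩
    rw [coeff_slicePoly j y φ d d P le_rfl, coeff_trans j y g P d d hPd, Finset.sum_eq_single 0]
    · simp
    · intro m _ hm
      rw [Polynomial.coeff_eq_zero_of_natDegree_lt (p := P) (n := m + d) (by omega), map_zero, mul_zero, zero_mul]
    · simp
  have hval : contract kM φ (deltaJ j (P.coeff d)) = MonoidAlgebra.single m₀ ((P.coeff d).coeff m₀) := by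
    generalize P.coeff d = b
    induction b using MonoidAlgebra.induction_linear with
    | zero => simp
    | add p q hp hq => rw [map_add, map_add, hp, hq, MonoidAlgebra.coeff_add, Finsupp.add_apply, MonoidAlgebra.single_add]
    | single m r =>
      rw [← mul_one r, ← smul_eq_mul, ← MonoidAlgebra.smul_single, map_smul, map_smul, deltaJ_gl, contract_tmul]
      have hφ : φ (j (gl m)) = if m = m₀ then 1 else 0 := by
        show (MonoidAlgebra.basis M k).coord m₀ (l ((j : kM →ₐ[k] C).toLinearMap (gl m))) = _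
        rw [← LinearMap.comp_apply l, hl, LinearMap.id_apply, ← MonoidAlgebra.basis_apply, Module.Basis.coord_apply,
          Module.Basis.repr_self, Finsupp.single_apply]
      rw [hφ]
      by_cases hm : m = m₀
      · subst hm; simp
      · simp [hm]
  rw [hval] at hmem
  have h1 : (1 : kM) ∈ L := by
    have h := L.mul_mem_left (MonoidAlgebra.single m₀⁻¹ ((P.coeff d).coeff m₀)⁻¹) hmem
    rwa [MonoidAlgebra.single_mul_single, inv_mul_cancel, inv_mul_cancel₀ hm₀, ← MonoidAlgebra.one_def] at h
  obtain ⟨Q, hQd, hQ0, hQ1⟩ := h1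
  haveI : Nontrivial kM := inferInstance
  have hnd : Q.natDegree = d := le_antisymm hQd (Polynomial.le_natDegree_of_ne_zero (by rw [hQ1]; exact one_ne_zero))
  exact ⟨Q, by rw [Polynomial.Monic, Polynomial.leadingCoeff, hnd, hQ1], hnd, hQ0⟩

theorem indep {d : ℕ} (hmin : ∀ P : (kM)[X], P.degree < d → ev j y P = 0 → P = 0) (w : ℕ → kM ⊗[k] kM)
    (hw : ∑ m ∈ Finset.range d,
      Algebra.TensorProduct.map (AlgHom.id k kM) (j : kM →ₐ[k] C) (w m) * ((1 : kM) ⊗ₜ[k] (y ^ m)) = 0) :
    ∀ m < d, w m = 0 := by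
  have key : ∀ (φ : kM →ₗ[k] k) (z : kM ⊗[k] kM) (c : C),
      lcontr φ (Algebra.TensorProduct.map (AlgHom.id k kM) (j : kM →ₐ[k] C) z * ((1 : kM) ⊗ₜ[k] c)) =
        j (lcontr φ z) * c := by
    intro φ z c
    induction z using TensorProduct.induction_on with
    | zero => simp
    | add p q hp hq => simp only [map_add, add_mul, hp, hq]
    | tmul p q => simp [lcontr]
  intro m hm
  refine (TensorProduct.comm k kM kM).injective (Groth.Agent.Lib.Comod.Basic.ext_contract fun φ => ?_)
  rw [map_zero, map_zero]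
  have hc : ∀ z : kM ⊗[k] kM, contract kM φ (TensorProduct.comm k kM kM z) = lcontr φ z := by
    intro z
    induction z using TensorProduct.induction_on with
    | zero => simp
    | add p q hp hq => simp only [map_add, hp, hq]
    | tmul p q => simp [lcontr]
  rw [hc]
  let P : (kM)[X] := ∑ i ∈ Finset.range d, Polynomial.C (lcontr φ (w i)) * X ^ i
  have hP : P.degree < d := by
    rw [Polynomial.degree_lt_iff_coeff_zero]
    intro i hi
    simp only [P, Polynomial.finsetSum_coeff, Polynomial.coeff_C_mul_X_pow]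
    rw [Finset.sum_ite_eq, if_neg (by simp; omega)]
  have hev : ev j y P = 0 := by
    have h := congrArg (lcontr φ) hw
    rw [map_sum, map_zero] at h
    simp only [key] at h
    simpa [P] using h
  have := congrArg (fun Q => Q.coeff m) (hmin P hP hev)
  simp only [P, Polynomial.finsetSum_coeff, Polynomial.coeff_C_mul_X_pow, Polynomial.coeff_zero] at this
  rwa [Finset.sum_ite_eq, if_pos (Finset.mem_range.2 hm)] at this

theorem exists_root [IsAlgClosed k] (hj : Function.Injective j) :
    ∃ c : k, ∀ P : (kM)[X], ev j y P = 0 → P.eval (c • (1 - gl g)) = 0 := by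
  classical
  by_cases hne : ∃ P : (kM)[X], P ≠ 0 ∧ ev j y P = 0
  swap
  · push_neg at hne
    exact ⟨0, fun P hP => by
      by_cases h : P = 0
      · simp [h]
      · exact absurd hP (hne P h)⟩
  let p : ℕ → Prop := fun d => ∃ P : (kM)[X], P ≠ 0 ∧ P.natDegree ≤ d ∧ ev j y P = 0
  have hp : ∃ d, p d := by
    obtain ⟨P, hP, hP0⟩ := hne
    exact ⟨P.natDegree, P, hP, le_rfl, hP0⟩
  let d := Nat.find hp
  have hmin : ∀ P : (kM)[X], P.degree < d → ev j y P = 0 → P = 0 := by
    intro P hP hP0
    by_contra h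
    have hlt : P.natDegree < d := (Polynomial.natDegree_lt_iff_degree_lt h).2 hP
    exact Nat.find_min hp hlt ⟨P, h, le_rfl, hP0⟩
  obtain ⟨Q, hQm, hQd, hQ0⟩ := exists_monic j y hy hj (Nat.find_spec hp) hmin
  have hd : 0 < d := by
    rcases Nat.eq_zero_or_pos d with h | h
    · exfalso
      have h1 : Q = 1 := Polynomial.eq_one_of_monic_natDegree_zero hQm (hQd.trans h)
      rw [h1, map_one] at hQ0
      have h2 := congrArg (CoalgebraStruct.counit (R := k)) hQ0
      rw [Bialgebra.counit_one, map_zero] at h2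
      exact one_ne_zero h2
    · exact h
  -- invariance of the monic relation
  have hinv : ∀ i, i ≤ d → (trans j y g Q).coeff i = Q.coeff i ⊗ₜ[k] (1 : C) := by
    intro i hi
    refine Groth.Agent.Lib.Comod.Basic.ext_contract fun φ => ?_
    rw [contract_tmul]
    have hS : slicePoly j y g φ d Q - Polynomial.C (φ 1 • (1 : kM)) * Q = 0 := by
      refine hmin _ ?_ ?_
      · rw [Polynomial.degree_lt_iff_coeff_zero]
        intro m hm
        rcases eq_or_lt_of_le hm with h | h
        · subst h
          rw [Polynomial.coeff_sub, coeff_slicePoly j y φ d d Q le_rfl, coeff_trans j y g Q d d hQd.le,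
            Finset.sum_eq_single 0, Polynomial.coeff_C_mul]
          · rw [zero_add, show Q.coeff d = 1 by have := hQm.coeff_natDegree; rwa [hQd] at this]
            simp [Algebra.TensorProduct.one_def]
          · intro m _ hm
            rw [Polynomial.coeff_eq_zero_of_natDegree_lt (p := Q) (n := m + d) (by omega), map_zero, mul_zero,
              zero_mul]
          · simp
        · refine Polynomial.coeff_eq_zero_of_natDegree_lt (lt_of_le_of_lt ((Polynomial.natDegree_sub_le _ _).trans
            (max_le (natDegree_slicePoly j y φ d Q) ((Polynomial.natDegree_C_mul_le _ _).trans hQd.le))) h)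
      · rw [map_sub, map_mul, hQ0, ev_slicePoly j y hy φ d Q hQd.le hQ0, mul_zero, sub_zero]
    have := congrArg (fun R => R.coeff i) hS
    simp only [Polynomial.coeff_sub, coeff_slicePoly j y φ d i Q hi, Polynomial.coeff_C_mul, Polynomial.coeff_zero,
      sub_eq_zero] at this
    rw [this, smul_mul_assoc, one_mul]
  let iJ : kM ⊗[k] kM →ₐ[k] kM ⊗[k] C := Algebra.TensorProduct.map (AlgHom.id k kM) (j : kM →ₐ[k] C)
  have hΔJ : ∀ b : kM, deltaJ j b = iJ (CoalgebraStruct.comul (R := k) b) := fun b => rfl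
  have hterm : ∀ (b : kM) (m : ℕ), deltaJ j b * ((gl g) ⊗ₜ[k] y) ^ m =
      iJ (CoalgebraStruct.comul (R := k) b * (((gl g) ^ m) ⊗ₜ[k] (1 : kM))) * ((1 : kM) ⊗ₜ[k] (y ^ m)) := by
    intro b m
    rw [map_mul, hΔJ, mul_assoc, Algebra.TensorProduct.tmul_pow]
    congr 1
    simp [iJ]
  -- positive coefficients
  have hpos : ∀ l, 1 ≤ l → l ≤ d →
      Q.coeff l = algebraMap k kM (CoalgebraStruct.counit (R := k) (Q.coeff l)) ∧
      ∀ n, l < n → n ≤ d → (n.choose l : k) • Q.coeff n = 0 := by
    intro l hl hld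
    let w : ℕ → kM ⊗[k] kM := fun m => ((m + l).choose l : kM ⊗[k] kM) *
      (CoalgebraStruct.comul (R := k) (Q.coeff (m + l)) * (((gl g) ^ m) ⊗ₜ[k] (1 : kM))) -
      if m = 0 then Q.coeff l ⊗ₜ[k] (1 : kM) else 0
    have hw := indep j y hy hmin w ?_
    · refine ⟨?_, fun n hn hnd => ?_⟩
      · have h0 := hw 0 (by omega)
        simp only [w, zero_add, Nat.choose_self, Nat.cast_one, one_mul, pow_zero, ← Algebra.TensorProduct.one_def,
          mul_one, if_true, sub_eq_zero] at h0
        have h1 := congrArg (fun z => TensorProduct.lid k kM ((CoalgebraStruct.counit (R := k) (A := kM)).rTensor kM z)) h0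
        simp only [Coalgebra.rTensor_counit_comul, LinearMap.rTensor_tmul, TensorProduct.lid_tmul, one_smul] at h1
        conv_lhs => rw [h1]
        rw [Algebra.algebraMap_eq_smul_one]
      · have h0 := hw (n - l) (by omega)
        simp only [w, Nat.sub_add_cancel hn.le, if_neg (show ¬ n - l = 0 by omega), sub_zero] at h0
        have hu : IsUnit (((gl g) ^ (n - l)) ⊗ₜ[k] (1 : kM)) :=
          ((((MonoidAlgebra.isGroupLikeElem_single_one (R := k) g).isUnit).pow _).map
            (Algebra.TensorProduct.includeLeft : kM →ₐ[k] kM ⊗[k] kM))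
        rw [← mul_assoc, IsUnit.mul_left_eq_zero hu, ← map_natCast (Bialgebra.comulAlgHom k kM),
          ← Bialgebra.comulAlgHom_apply, ← map_mul] at h0
        have h1 := congrArg (fun z => TensorProduct.rid k kM ((CoalgebraStruct.counit (R := k) (A := kM)).lTensor kM z)) h0
        simp only [Bialgebra.comulAlgHom_apply, Coalgebra.lTensor_counit_comul, TensorProduct.rid_tmul, one_smul,
          map_zero] at h1
        rw [Algebra.smul_def, map_natCast]
        exact h1
    · have h := hinv l hld
      rw [coeff_trans j y g Q d l hQd.le, ← Finset.sum_subset (Finset.range_mono (Nat.le_succ d))] at h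
      · simp only [w, map_sub, sub_mul, Finset.sum_sub_distrib]
        rw [sub_eq_zero]
        refine Eq.trans (Eq.trans ?_ h) ?_
        · refine Finset.sum_congr rfl fun m _ => ?_
          change iJ _ * _ = _
          rw [map_mul, map_natCast, mul_assoc, mul_assoc, hterm]
        · symm
          rw [Finset.sum_eq_single 0 (fun m _ hm => by simp [hm]) (fun h => absurd (Finset.mem_range.2 hd) h)]
          simp [Algebra.TensorProduct.one_def]
      · intro m hm hm'
        rw [Finset.mem_range] at hm hm'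
        rw [Polynomial.coeff_eq_zero_of_natDegree_lt (p := Q) (n := m + l) (by omega), map_zero, mul_zero, zero_mul]
  let a : ℕ → k := fun n => CoalgebraStruct.counit (R := k) (Q.coeff n)
  have ha : ∀ n, 1 ≤ n → n ≤ d → Q.coeff n = algebraMap k kM (a n) := fun n h1 h2 => (hpos n h1 h2).1
  have hQc1 : Q.coeff d = 1 := by have := hQm.coeff_natDegree; rwa [hQd] at this
  have had : a d = 1 := by simp only [a]; rw [hQc1, Bialgebra.counit_one]
  -- the constant equation
  let G : kM := gl g
  have hzero : ∀ m < d, CoalgebraStruct.comul (R := k) (Q.coeff m) * ((G ^ m) ⊗ₜ[k] (1 : kM)) -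
      (G ^ d) ⊗ₜ[k] Q.coeff m - (if m = 0 then Q.coeff 0 ⊗ₜ[k] (1 : kM) else 0) = 0 := by
    refine indep j y hy hmin _ ?_
    have h := hinv 0 (Nat.zero_le d)
    rw [coeff_trans j y g Q d 0 hQd.le, Finset.sum_range_succ] at h
    simp only [add_zero, Nat.choose_zero_right, Nat.cast_one, one_mul] at h
    have hyd : y ^ d = - ∑ m ∈ Finset.range d, j (Q.coeff m) * y ^ m := by
      have h1 := hQ0
      rw [Polynomial.coe_eval₂RingHom, Polynomial.eval₂_eq_sum_range, hQd, Finset.sum_range_succ, ← hQd,
        hQm.coeff_natDegree, map_one, one_mul, hQd] at h1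
      rw [eq_neg_iff_add_eq_zero, add_comm]
      exact h1
    rw [show deltaJ j (Q.coeff d) = 1 by rw [hQc1, map_one], one_mul,
      Algebra.TensorProduct.tmul_pow, hyd, TensorProduct.tmul_neg, TensorProduct.tmul_sum] at h
    simp only [map_sub, sub_mul, Finset.sum_sub_distrib]
    have e1 : ∀ m, iJ (CoalgebraStruct.comul (R := k) (Q.coeff m) * ((G ^ m) ⊗ₜ[k] (1 : kM))) * ((1 : kM) ⊗ₜ[k] (y ^ m)) =
        deltaJ j (Q.coeff m) * ((gl g) ⊗ₜ[k] y) ^ m := fun m => (hterm _ m).symm
    have e2 : ∀ m, iJ ((G ^ d) ⊗ₜ[k] Q.coeff m) * ((1 : kM) ⊗ₜ[k] (y ^ m)) = (G ^ d) ⊗ₜ[k] (j (Q.coeff m) * y ^ m) :=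
      fun m => by simp [iJ]
    have e3 : ∑ m ∈ Finset.range d, iJ (if m = 0 then Q.coeff 0 ⊗ₜ[k] (1 : kM) else 0) * ((1 : kM) ⊗ₜ[k] (y ^ m)) =
        Q.coeff 0 ⊗ₜ[k] (1 : C) := by
      rw [Finset.sum_eq_single 0 (fun m _ hm => by simp [hm]) (fun h => absurd (Finset.mem_range.2 hd) h)]
      simp [iJ, Algebra.TensorProduct.one_def]
    refine sub_eq_zero.2 (Eq.trans (Eq.trans ?_ h) e3.symm)
    rw [sub_eq_add_neg]
    exact congrArg₂ (· + ·) (Finset.sum_congr rfl fun m _ => e1 m)
      (congrArg Neg.neg (Finset.sum_congr rfl fun m _ => e2 m))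
  have hG : ∀ n, 1 ≤ n → n ≤ d → a n • G ^ n = a n • G ^ d := by
    intro n h1 h2
    rcases eq_or_lt_of_le h2 with h | h
    · subst h; rfl
    · have h0 := hzero n h
      rw [if_neg (by omega), sub_zero, ha n h1 h2, Bialgebra.comul_algebraMap, sub_eq_zero] at h0
      have h3 := congrArg (fun z => TensorProduct.rid k kM ((CoalgebraStruct.counit (R := k) (A := kM)).lTensor kM z)) h0
      simp only [Algebra.TensorProduct.algebraMap_apply, Algebra.TensorProduct.tmul_mul_tmul, mul_one,
        LinearMap.lTensor_tmul, Bialgebra.counit_one, Bialgebra.counit_algebraMap, TensorProduct.rid_tmul,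
        one_smul] at h3
      rw [Algebra.smul_def]
      exact h3
  -- the constant coefficient
  obtain ⟨μ, hμ⟩ : ∃ μ : k, Q.coeff 0 = μ • (1 - G ^ d) := by
    have h0 := hzero 0 hd
    rw [if_pos rfl, pow_zero, ← Algebra.TensorProduct.one_def, mul_one, sub_sub, sub_eq_zero] at h0
    have hh : G ^ d = gl (g ^ d) := by simp [G, MonoidAlgebra.single_pow]
    rw [hh] at h0 ⊢
    generalize hbdef : Q.coeff 0 = b at h0 ⊢
    let φ := (MonoidAlgebra.basis M k).coord (g ^ d)
    have h1 : lcontr φ (CoalgebraStruct.comul (R := k) b) = φ b • gl (g ^ d) := by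
      clear h0 hbdef
      induction b using MonoidAlgebra.induction_linear with
      | zero => simp
      | add p q hp hq => rw [map_add, map_add, map_add, hp, hq, add_smul]
      | single m r =>
        rw [← mul_one r, ← smul_eq_mul, ← MonoidAlgebra.smul_single, map_smul, map_smul, map_smul,
          (MonoidAlgebra.isGroupLikeElem_single_one (R := k) m).comul_eq_tmul_self]
        by_cases hm : m = g ^ d
        · subst hm; simp [lcontr, φ, ← MonoidAlgebra.basis_apply]
        · simp [lcontr, φ, ← MonoidAlgebra.basis_apply, Finsupp.single_eq_of_ne (Ne.symm hm)]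
    rw [h0] at h1
    have hφg : φ (gl (g ^ d)) = 1 := by simp [φ, ← MonoidAlgebra.basis_apply]
    simp only [map_add, lcontr, LinearMap.comp_apply, LinearMap.rTensor_tmul, LinearEquiv.coe_coe,
      TensorProduct.lid_tmul, hφg, one_smul] at h1
    exact ⟨-φ b, by rw [neg_smul, smul_sub, neg_sub, eq_sub_iff_add_eq, ← h1, add_comm]⟩
  -- choose the scalar
  let f : k[X] := Polynomial.C μ + ∑ n ∈ Finset.range d, Polynomial.C (a (n + 1)) * X ^ (n + 1)
  have hf : f.degree ≠ 0 := by
    intro h
    have h1 : f.coeff d = 0 := Polynomial.coeff_eq_zero_of_degree_lt (by rw [h]; exact_mod_cast hd)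
    simp only [f, Polynomial.coeff_add, Polynomial.coeff_C, if_neg hd.ne', zero_add, Polynomial.finsetSum_coeff,
      Polynomial.coeff_C_mul_X_pow] at h1
    rw [Finset.sum_eq_single (d - 1)] at h1
    · rw [if_pos (by omega), Nat.sub_add_cancel hd, had] at h1
      exact one_ne_zero h1
    · intro n _ hn; rw [if_neg (by omega)]
    · intro hn; exact absurd (Finset.mem_range.2 (by omega)) hn
  obtain ⟨c, hc⟩ := IsAlgClosed.exists_root f hf
  refine ⟨c, fun P hP => ?_⟩
  have hQc : Q.eval (c • (1 - G)) = 0 := by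
    rw [Polynomial.eval_eq_sum_range, hQd, Finset.sum_range_succ']
    have hn : ∀ n ∈ Finset.range d,
        Q.coeff (n + 1) * (c • (1 - G)) ^ (n + 1) = (a (n + 1) * c ^ (n + 1)) • (1 - G ^ d) := by
      intro n hn
      have hnd : n + 1 ≤ d := Finset.mem_range.1 hn
      rw [ha _ (by omega) hnd, _root_.smul_pow, Algebra.smul_def, Algebra.smul_def, map_mul, mul_assoc]
      by_cases h0 : a (n + 1) = 0
      · simp [h0]
      have hch : ∀ l, 1 ≤ l → l < n + 1 → ((n + 1).choose l : kM) = 0 := by
        intro l hl hl'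
        have h := (hpos l hl (by omega)).2 (n + 1) hl' hnd
        rw [ha _ (by omega) hnd, Algebra.smul_def, ← map_mul, map_eq_zero_iff _ (algebraMap k kM).injective,
          mul_eq_zero, or_iff_left h0] at h
        rw [← map_natCast (algebraMap k kM), h, map_zero]
      have hpow : ∀ x : kM, (1 + x) ^ (n + 1) = 1 + x ^ (n + 1) := by
        intro x
        rw [add_comm, add_pow, Finset.sum_range_succ, Finset.sum_range_succ', Finset.sum_eq_zero fun l hl => by
          rw [hch (l + 1) (by omega) (by have := Finset.mem_range.1 hl; omega), mul_zero]]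
        simp
      have hm1 : (-1 : kM) ^ (n + 1) = -1 := by
        have h := hpow (-1)
        rw [add_neg_cancel, zero_pow (by omega)] at h
        exact eq_neg_of_add_eq_zero_right h.symm
      have hGG : algebraMap k kM (a (n + 1)) * G ^ (n + 1) = algebraMap k kM (a (n + 1)) * G ^ d := by
        have h := hG (n + 1) (by omega) hnd
        rwa [Algebra.smul_def, Algebra.smul_def] at h
      rw [show (1 : kM) - G = 1 + (-1) * G by ring, hpow, mul_pow, hm1]
      linear_combination (-(algebraMap k kM (c ^ (n + 1)))) * hGG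
    rw [Finset.sum_congr rfl hn, pow_zero, mul_one, hμ, ← Finset.sum_smul, ← add_smul]
    have : ∑ n ∈ Finset.range d, a (n + 1) * c ^ (n + 1) + μ = 0 := by
      simpa [f, Polynomial.eval_finsetSum, add_comm] using hc
    rw [this, zero_smul]
  have hr : P %ₘ Q = 0 := by
    refine hmin _ ?_ ?_
    · refine (Polynomial.degree_modByMonic_lt P hQm).trans_le ?_
      rw [Polynomial.degree_eq_natDegree hQm.ne_zero, hQd]
    · have h := Polynomial.modByMonic_add_div P Q
      have h2 : ev j y (P %ₘ Q) + ev j y Q * ev j y (P /ₘ Q) = 0 := by rw [← map_mul, ← map_add, h, hP]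
      rwa [hQ0, zero_mul, add_zero] at h2
  rw [← Polynomial.modByMonic_add_div P Q, hr, zero_add, Polynomial.eval_mul, hQc, zero_mul]

end

end Groth.Agent.H66.Section
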